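import Groth.Agent.GammaLib.FlatGamma

/-! Symmetric tensors of a flat algebra are generated by elementary symmetric tensors. -/

set_option autoImplicit false
set_option linter.style.haveILetI false
universe u
open scoped TensorProduct
open Groth.Agent.GammaLib

namespace Groth.Agent.TSElem

variable {A : Type u} [CommRing A] {B : Type u} [CommRing B] [Algebra A B] {d : ℕ}

theorem cnt_map {ι κ : Type} [Fintype ι] [Fintype κ] (e : ι → κ) (f : Fin d → ι) :
    cnt (e ∘ f) = (cnt f).mapDomain e := by
  simp [cnt, Finsupp.mapDomain_finsetSum, Finsupp.mapDomain_single]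

theorem osum_mapDomain {ι κ : Type} [Fintype ι] [Fintype κ] {e : ι → κ} (he : Function.Injective e)
    (y : κ → B) (k : ι →₀ ℕ) :
    osum (A := A) (d := d) y (k.mapDomain e) = osum (fun i => y (e i)) k := by
  classical
  refine Eq.symm (Finset.sum_bij (fun f _ => e ∘ f) (fun f hf => ?_) (fun f _ g _ h => ?_) (fun g hg => ?_)
    fun f _ => rfl)
  · simp only [Finset.mem_filter] at hf ⊢
    exact ⟨Finset.mem_univ _, by rw [cnt_map, hf.2]⟩
  · exact funext fun a => he (congrFun h a)
  · simp only [Finset.mem_filter] at hg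
    have hr : ∀ a, ∃ i, e i = g a := by
      intro a
      by_contra h
      have h1 : (k.mapDomain e) (g a) = 0 := Finsupp.mapDomain_of_notMem_range _ _ fun ⟨i, hi⟩ => h ⟨i, hi⟩
      rw [← hg.2, cnt_apply] at h1
      exact (Fintype.card_eq_zero_iff.1 h1).false ⟨a, rfl⟩
    choose f hf using hr
    refine ⟨f, Finset.mem_filter.2 ⟨Finset.mem_univ _, Finsupp.mapDomain_injective he ?_⟩, funext hf⟩
    rw [← cnt_map, show e ∘ f = g from funext hf, hg.2]

theorem osum_mul {ι κ : Type} [Fintype ι] [Fintype κ] [DecidableEq ι] [DecidableEq κ] (x : ι → B) (y : κ → B)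
    (k : ι →₀ ℕ) (l : κ →₀ ℕ) :
    osum (A := A) (d := d) x k * osum y l =
      ∑ K ∈ (cset (ι × κ) d).filter (fun K => K.mapDomain Prod.fst = k ∧ K.mapDomain Prod.snd = l),
        osum (fun p : ι × κ => x p.1 * y p.2) K := by
  classical
  simp only [osum, Finset.sum_mul_sum, ← Finset.sum_product', PiTensorProduct.tprod_mul_tprod]
  rw [Finset.sum_sigma']
  refine Finset.sum_bij' (fun fg _ => ⟨cnt fun a => (fg.1 a, fg.2 a), fun a => (fg.1 a, fg.2 a)⟩)
    (fun p _ => (Prod.fst ∘ p.2, Prod.snd ∘ p.2)) (fun fg h => ?_) (fun p h => ?_) (fun _ _ => rfl)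
    (fun p h => ?_) fun fg _ => rfl
  · simp only [Finset.mem_product, Finset.mem_sigma, Finset.mem_filter, Finset.mem_univ, true_and] at h ⊢
    refine ⟨⟨mem_cset.2 (sum_cnt _), ?_, ?_⟩, trivial⟩
    · rw [← cnt_map]; exact h.1
    · rw [← cnt_map]; exact h.2
  · simp only [Finset.mem_product, Finset.mem_sigma, Finset.mem_filter, Finset.mem_univ, true_and] at h ⊢
    obtain ⟨⟨_, h1, h2⟩, h3⟩ := h
    exact ⟨by rw [cnt_map, h3]; exact h1, by rw [cnt_map, h3]; exact h2⟩
  · simp only [Finset.mem_sigma, Finset.mem_filter, Finset.mem_univ, true_and] at h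
    obtain ⟨K, g⟩ := p
    have h2 : cnt g = K := h.2
    subst h2
    rfl

theorem bool_osum (a : B) (j : ℕ) (hj : j ≤ d) :
    osum (A := A) (d := d) (fun b : Bool => if b then a else 1)
        (Finsupp.single true j + Finsupp.single false (d - j)) =
      ∑ I ∈ (Finset.univ : Finset (Fin d)).powersetCard j,
        PiTensorProduct.tprod A (fun i : Fin d => if i ∈ I then a else (1 : B)) := by
  classical
  refine Finset.sum_bij' (fun f _ => Finset.univ.filter fun i => f i = true) (fun I _ => fun i => decide (i ∈ I))
    (fun f hf => ?_) (fun I hI => ?_) (fun f _ => ?_) (fun I _ => ?_) fun f _ => ?_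
  · simp only [Finset.mem_filter] at hf
    rw [Finset.mem_powersetCard]
    refine ⟨Finset.subset_univ _, ?_⟩
    have h1 := DFunLike.congr_fun hf.2 true
    rw [cnt_apply, Fintype.card_subtype] at h1
    simpa using h1
  · rw [Finset.mem_powersetCard] at hI
    simp only [Finset.mem_filter]
    refine ⟨Finset.mem_univ _, Finsupp.ext fun b => ?_⟩
    rw [cnt_apply, Fintype.card_subtype]
    cases b
    · simp [Finset.card_compl, hI.2, ← Finset.compl_filter]
    · simp [hI.2]
  · ext i; simp
  · ext i; simp
  · simp

theorem osum_mem (T : Subalgebra A (⨂[A] _ : Fin d, B))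
    (hT : ∀ (a : B) (j : ℕ), (∑ I ∈ (Finset.univ : Finset (Fin d)).powersetCard j,
      PiTensorProduct.tprod A (fun i : Fin d => if i ∈ I then a else (1 : B))) ∈ T) :
    ∀ (m : ℕ) (ι : Type) [Fintype ι] [DecidableEq ι] (x : ι → B) (o : ι), x o = 1 →
      ∀ k : ι →₀ ℕ, ∑ l, k l = d → d - k o = m → osum x k ∈ T := by
  classical
  intro m
  induction m using Nat.strong_induction_on with
  | _ m ih =>
  intro ι _ _ x o ho k hk hm
  by_cases hi : ∃ i, i ≠ o ∧ k i ≠ 0
  · obtain ⟨i, hio, hki⟩ := hi
    have hle : k i + k o ≤ d := by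
      rw [← hk, ← Finset.sum_pair hio]
      exact Finset.sum_le_sum_of_subset (Finset.subset_univ _)
    let k' : ι →₀ ℕ := k.erase i + Finsupp.single o (k i)
    have hk' : ∑ l, k' l = d := by
      rw [← hk]
      conv_rhs => rw [← Finsupp.single_add_erase i k]
      simp only [k', Finsupp.add_apply, Finset.sum_add_distrib, Finsupp.single_apply, Finset.sum_ite_eq,
        Finset.mem_univ, if_true]
      rw [add_comm]
    have hk'o : k' o = k o + k i := by simp [k', Finsupp.erase_ne hio.symm]
    have h1 : osum x k' ∈ T := ih (d - k' o) (by omega) ι x o ho k' hk' rfl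
    let e : Bool → B := fun b => if b then x i else 1
    let kb : Bool →₀ ℕ := Finsupp.single true (k i) + Finsupp.single false (d - k i)
    have h2 : osum e kb ∈ T := by
      rw [bool_osum (x i) (k i) (by omega)]
      exact hT _ _
    let φ : ι → Bool × ι := fun l => if l = i then (true, o) else (false, l)
    have hφ : Function.Injective φ := by
      intro a b h
      simp only [φ] at h
      split_ifs at h with ha hb <;> simp_all
    have h3 := T.mul_mem h2 h1
    rw [osum_mul] at h3
    have hmem : k.mapDomain φ ∈ (cset (Bool × ι) d).filter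
        (fun K => K.mapDomain Prod.fst = kb ∧ K.mapDomain Prod.snd = k') := by
      have hsplit := Finsupp.single_add_erase i k
      have hE : ∀ (β : Type) (g : ι → β) (c : β), (∀ l, l ≠ i → g l = c) →
          (k.erase i).mapDomain g = Finsupp.single c (∑ l, k.erase i l) := by
        intro β g c hg
        rw [Finsupp.mapDomain_congr (g := fun _ => c) fun l hl => hg l ?_]
        · rw [Finsupp.mapDomain, Finsupp.sum_fintype _ _ (fun _ => Finsupp.single_zero _),
            ← Finsupp.single_finsetSum]
        · rintro rfl; simp at hl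
      rw [Finset.mem_filter, mem_cset, ← Finsupp.mapDomain_comp, ← Finsupp.mapDomain_comp]
      refine ⟨?_, ?_, ?_⟩
      · rw [← hk, ← Finsupp.sum_fintype (k.mapDomain φ) (fun _ v => v) (fun _ => rfl),
          Finsupp.sum_mapDomain_index (fun _ => rfl) (fun _ _ _ => rfl), Finsupp.sum_fintype _ _ (fun _ => rfl)]
      · conv_lhs => rw [← hsplit]
        rw [Finsupp.mapDomain_add, Finsupp.mapDomain_single, hE _ _ false fun l hl => by simp [φ, hl],
          show (Prod.fst ∘ φ) i = true by simp [φ]]
        congr 2
        have hh : ∑ l, k l = k i + ∑ l, k.erase i l := by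
          conv_lhs => rw [← hsplit]
          simp [Finset.sum_add_distrib, Finsupp.single_apply]
        omega
      · conv_lhs => rw [← hsplit]
        rw [Finsupp.mapDomain_add, Finsupp.mapDomain_single,
          Finsupp.mapDomain_congr (g := id) (fun l hl => ?_), Finsupp.mapDomain_id,
          show (Prod.snd ∘ φ) i = o by simp [φ], add_comm]
        have : l ≠ i := by rintro rfl; simp at hl
        simp [φ, this]
    rw [← Finset.add_sum_erase _ _ hmem, osum_mapDomain hφ] at h3
    have hx : (fun l => e (φ l).1 * x (φ l).2) = x := by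
      funext l
      simp only [φ, e]
      split_ifs with h <;> simp_all
    rw [hx] at h3
    refine (add_mem_cancel_right (sum_mem fun K hK => ?_)).1 h3
    obtain ⟨hne, hK⟩ := Finset.mem_erase.1 hK
    rw [Finset.mem_filter, mem_cset] at hK
    obtain ⟨hKd, hK1, hK2⟩ := hK
    have hfst : ∀ b, ∑ l, K (b, l) = kb b := fun b => by
      rw [← hK1]
      simp [Finsupp.mapDomain, Finsupp.sum_fintype, Finsupp.finsetSum_apply, Finsupp.single_apply,
        Fintype.sum_prod_type, eq_comm (b := b)]
      cases b <;> simp
    have hsnd : ∀ l, K (true, l) + K (false, l) = k' l := fun l => by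
      rw [← hK2]
      simp [Finsupp.mapDomain, Finsupp.sum_fintype, Finsupp.finsetSum_apply, Finsupp.single_apply,
        Fintype.sum_prod_type, eq_comm (b := l)]
    refine ih (d - K (false, o)) ?_ (Bool × ι) _ (false, o) (by simp [e, ho]) K hKd rfl
    have htrue : ∑ l, K (true, l) = k i := by rw [hfst]; simp [kb]
    have hto : K (true, o) ≤ k i :=
      htrue ▸ Finset.single_le_sum (f := fun l => K (true, l)) (fun l _ => Nat.zero_le _) (Finset.mem_univ o)
    rcases hto.eq_or_lt with heq | hlt
    · exfalso
      apply hne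
      have hz : ∀ l, l ≠ o → K (true, l) = 0 := by
        intro l hl
        have := Finset.add_sum_erase Finset.univ (fun l => K (true, l)) (Finset.mem_univ o)
        have h4 : ∑ l ∈ Finset.univ.erase o, K (true, l) = 0 := by
          omega
        exact Finset.sum_eq_zero_iff.1 h4 l (Finset.mem_erase.2 ⟨hl, Finset.mem_univ l⟩)
      ext ⟨b, l⟩
      have hr : ∀ p, p ∉ Set.range φ → (k.mapDomain φ) p = 0 := fun p hp => Finsupp.mapDomain_of_notMem_range _ _ hp
      have hi1 : (k.mapDomain φ) (true, o) = k i := by
        rw [show (true, o) = φ i by simp [φ], Finsupp.mapDomain_apply hφ]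
      have hl1 : ∀ l, l ≠ i → (k.mapDomain φ) (false, l) = k l := fun l hl => by
        rw [show (false, l) = φ l by simp [φ, hl], Finsupp.mapDomain_apply hφ]
      cases b
      · rcases eq_or_ne l i with rfl | hli
        · rw [hr _ (by rintro ⟨a, ha⟩; simp only [φ] at ha; split_ifs at ha <;> simp_all)]
          have := hsnd l
          simp [k', Finsupp.single_apply, hio.symm] at this
          omega
        · rw [hl1 l hli]
          have := hsnd l
          rcases eq_or_ne l o with rfl | hlo
          · omega
          · simp [k', Finsupp.erase_ne hli, Finsupp.single_apply, hlo.symm, hz l hlo] at this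
            exact this
      · rcases eq_or_ne l o with rfl | hlo
        · rw [hi1, heq]
        · rw [hz l hlo, hr _ (by rintro ⟨a, ha⟩; simp only [φ] at ha; split_ifs at ha <;> simp_all)]
    · have := hsnd o
      omega
  · push Not at hi
    have hk0 : k = Finsupp.single o d := by
      ext l
      rcases eq_or_ne l o with rfl | hl
      · rw [Finsupp.single_eq_same, ← hk, Finset.sum_eq_single l (fun b _ hb => hi b hb) (by simp)]
      · rw [Finsupp.single_eq_of_ne hl, hi l hl]
    have h1 : osum (A := A) (d := d) x k = 1 := by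
      rw [hk0, show Finsupp.single o d =
          (Finsupp.single () d).mapDomain (fun _ : Unit => o) by simp [Finsupp.mapDomain_single],
        osum_mapDomain (fun _ _ _ => rfl), ho, osum, Finset.sum_eq_single (fun _ => ()), ← Pi.one_def,
        PiTensorProduct.one_def]
      · intro b _ hb; exact absurd (Subsingleton.elim _ _) hb
      · intro h
        refine absurd ?_ h
        simp only [Finset.mem_filter]
        refine ⟨Finset.mem_univ _, Finsupp.ext fun _ => ?_⟩
        rw [cnt_apply]; simp
    rw [h1]
    exact T.one_mem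

theorem TS_le [Module.Flat A B] (T : Subalgebra A (⨂[A] _ : Fin d, B))
    (hT : ∀ (a : B) (j : ℕ), (∑ I ∈ (Finset.univ : Finset (Fin d)).powersetCard j,
      PiTensorProduct.tprod A (fun i : Fin d => if i ∈ I then a else (1 : B))) ∈ T) :
    SymTen.TS A B d ≤ T := by
  classical
  intro y hy
  obtain ⟨n, g, z, hz, hzs⟩ := exists_symm_lift (M := B) y hy
  rw [← hz]
  refine map_rT_mem (bFin A n) (mp g) (Subalgebra.toSubmodule T) (fun r e _ f₀ => ?_) hzs
  rw [mp_osum, Subalgebra.mem_toSubmodule]
  let x : Option (Fin r) → B := fun l => l.elim 1 fun i => g (bFin A n (e i))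
  rw [show (fun i => g (bFin A n (e i))) = fun i => x (some i) from rfl,
    ← osum_mapDomain (Option.some_injective _) x]
  refine osum_mem T hT _ (Option (Fin r)) x none rfl _ ?_ rfl
  rw [← cnt_map]
  exact sum_cnt _

end Groth.Agent.TSElem
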